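import Cfsg.Agent.Lib.Goldschmidt.Consumers.Structure.Pre

/-!
# The normal closure of an abelian strongly closed `2`-subgroup

In a group without odd core it satisfies `Pre`, and the group is the product of it and the normalizer of the
strongly closed subgroup.
-/

set_option autoImplicit false
set_option linter.style.haveILetI false

namespace CfsgLib.Gold.CommPair

open Subgroup

universe u

variable {G : Type u} [Group G] [Finite G]

theorem pre_normalClosure (S : Sylow 2 G) {D : Subgroup G} (hO : Cfsg.pPrimeCore 2 G = ⊥)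
    (hcomm : ∀ a ∈ D, ∀ b ∈ D, a * b = b * a) (hsc : Cfsg.IsStronglyClosed D (S : Subgroup G)) :
    ∃ T : Sylow 2 (normalClosure (D : Set G)),
      (∀ x, x ∈ (T : Subgroup (normalClosure (D : Set G))) ↔ (x : G) ∈ (S : Subgroup G)) ∧
        Struct.Pre T (D.subgroupOf (normalClosure (D : Set G))) := by
  haveI := Fact.mk Nat.prime_two
  set K := normalClosure (D : Set G) with hK
  haveI hKn : K.Normal := normalClosure_normal
  have hDK : D ≤ K := le_normalClosure
  obtain ⟨T, hT⟩ := CfsgLib.LS.sylow_inf_subnormal S (Normal.isSubnormal hKn)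
  have hTmem : ∀ x : K, x ∈ (T : Subgroup K) ↔ (x : G) ∈ (S : Subgroup G) := fun x =>
    ⟨fun hx => (hT ▸ mem_map_of_mem K.subtype hx : (x : G) ∈ (S : Subgroup G) ⊓ K).1, fun hx => by
      obtain ⟨y, hy, e⟩ := hT.ge (show (x : G) ∈ (S : Subgroup G) ⊓ K from ⟨hx, x.2⟩)
      rwa [← Subtype.ext (e : (y : G) = x)]⟩
  refine ⟨T, hTmem, ?_, fun a ha b hb => Subtype.ext (hcomm _ ha _ hb),
    ⟨fun a ha => (hTmem a).2 (hsc.1 ha), fun a ha g hg => hsc.2 (a : G) ha g ((hTmem _).1 hg)⟩, ?_⟩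
  · apply map_injective K.subtype_injective
    rw [CfsgLib.Coprime.pPrimeCore_map_subtype_eq Nat.prime_two, hO, bot_inf_eq, Subgroup.map_bot]
  -- `K` is generated by the `K`-conjugates of `D`
  set N := (normalClosure ((D.subgroupOf K : Subgroup K) : Set K)).map K.subtype with hN
  suffices hle : K ≤ N by
    refine top_le_iff.1 fun x _ => ?_
    obtain ⟨y, hy, e⟩ := hle x.2
    rwa [← Subtype.ext (e : (y : G) = x)]
  rw [hK, normalClosure, closure_le]
  intro x hx
  obtain ⟨a, ha, hc⟩ := Group.mem_conjugatesOfSet_iff.1 hx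
  obtain ⟨g, rfl⟩ := isConj_iff.1 hc
  obtain ⟨k, hk⟩ := MulAction.exists_smul_eq K (MulAut.conjNormal (H := K) g • T) T
  have hgk : ∀ y ∈ D, (k : G) * g * y * ((k : G) * g)⁻¹ ∈ D := fun y hy => by
    refine hsc.2 y hy _ ?_
    have h1 : MulAut.conjNormal (H := K) g ⟨y, hDK hy⟩ ∈
        ((MulAut.conjNormal (H := K) g • T : Sylow 2 K) : Subgroup K) :=
      ⟨⟨y, hDK hy⟩, (hTmem _).2 (hsc.1 hy), rfl⟩
    have h2 : MulAut.conj k (MulAut.conjNormal (H := K) g ⟨y, hDK hy⟩) ∈ (T : Subgroup K) :=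
      Eq.subst (motive := fun R : Sylow 2 K =>
          MulAut.conj k (MulAut.conjNormal (H := K) g ⟨y, hDK hy⟩) ∈ (R : Subgroup K))
        hk (by rw [Sylow.coe_subgroup_smul]; exact ⟨_, h1, rfl⟩)
    have h3 := (hTmem _).1 h2
    rw [show (k : G) * g * y * ((k : G) * g)⁻¹ = (k : G) * (g * y * g⁻¹) * (k : G)⁻¹ by group]
    simpa [MulAut.conjNormal_apply] using h3
  refine ⟨k⁻¹ * ⟨(k : G) * g * a * ((k : G) * g)⁻¹, hDK (hgk a ha)⟩ * k⁻¹⁻¹, ?_, ?_⟩
  · exact (normalClosure_normal : (normalClosure ((D.subgroupOf K : Subgroup K) : Set K)).Normal).conj_mem _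
      (subset_normalClosure (mem_subgroupOf.2 (hgk a ha))) _
  · show (k : G)⁻¹ * ((k : G) * g * a * ((k : G) * g)⁻¹) * ((k : G)⁻¹)⁻¹ = g * a * g⁻¹
    group

/-- The group is the normal closure times the normalizer. -/
theorem exists_mul_normalizer (S : Sylow 2 G) {D : Subgroup G} (hsc : Cfsg.IsStronglyClosed D (S : Subgroup G))
    (g : G) : ∃ k ∈ normalClosure (D : Set G), ∃ n ∈ normalizer (D : Set G), g = k * n := by
  haveI := Fact.mk Nat.prime_two
  set K := normalClosure (D : Set G) with hK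
  haveI hKn : K.Normal := normalClosure_normal
  obtain ⟨T, hT⟩ := CfsgLib.LS.sylow_inf_subnormal S (Normal.isSubnormal hKn)
  have hle : normalizer (((T : Subgroup K).map K.subtype : Subgroup G) : Set G) ≤ normalizer (D : Set G) := by
    intro x hx
    refine mem_normalizer_fintype fun d hd => hsc.2 d hd x ?_
    rw [hT] at hx
    exact ((mem_normalizer_iff.1 hx d).1 ⟨hsc.1 hd, le_normalClosure hd⟩).1
  have h1 : g ∈ K ⊔ normalizer (((T : Subgroup K).map K.subtype : Subgroup G) : Set G) := by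
    rw [sup_comm, Sylow.normalizer_sup_eq_top]; exact mem_top g
  obtain ⟨k, hk, n, hn, e⟩ := CfsgLib.Coprime.mem_sup_exists (fun x _ => by
    rw [normalizer_eq_top]; exact mem_top x) h1
  exact ⟨k, hk, n, hle hn, e.symm⟩

end CfsgLib.Gold.CommPair
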