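import Cfsg.Agent.Lib.Goldschmidt.Consumers.Structure.Inputs
import Cfsg.Agent.Lib.Goldschmidt.Consumers.CommutingPair.Closure
import Cfsg.Agent.Lib.ProdFusion.Main

/-!
# The odd core of the centralizer of an abelian strongly closed `2`-subgroup `D`

It commutes with the `2`-elements of that centralizer, given the structure of the normal closure `K` of `D`:
on a component with nonabelian Sylow subgroup it acts trivially, on one with abelian Sylow subgroup it
commutes with the inner action of the `2`-elements.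
-/

set_option autoImplicit false
set_option linter.style.haveILetI false

namespace CfsgLib.Gold.CommPair

open Subgroup CfsgLib.Gold.Struct CfsgLib.SECrit CfsgLib.Invol
open scoped commutatorElement

universe u

variable {G : Type u} [Group G] [Finite G]

/-- An odd subgroup invariant under a Sylow `2`-subgroup and centralizing its involutions is trivial. -/
theorem eq_one_of_invariant {Y : Type u} [Group Y] [Finite Y] (hs : IsSimpleGroup Y) (hi : IsoFamilies Y)
    (Q : Sylow 2 Y) (hQ : ¬ IsMulCommutative (Q : Subgroup Y)) {W : Subgroup Y} (hW : Odd (Nat.card W))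
    (hinv : ∀ t ∈ (Q : Subgroup Y), ∀ w ∈ W, t * w * t⁻¹ ∈ W)
    (hfix : ∀ v ∈ (Q : Subgroup Y), v * v = 1 → ∀ w ∈ W, w * v = v * w) : W = ⊥ := by
  haveI := Fact.mk Nat.prime_two
  obtain ⟨H, hD⟩ := RankOne.exists_data_at hs hi Q
  obtain ⟨v, hv, hvo⟩ := exists_invol_mem hD.se.2.1
  have hvQ := hD.mem_of_invol hv (invol_mul_self hvo)
  refine (Subgroup.eq_bot_iff_forall _).2 fun w hw => ?_
  have hwH : ∀ w ∈ W, w ∈ H := fun w hw => mem_of_conj_mem hD.se hv hvo (by
    rw [hfix v hvQ (invol_mul_self hvo) w hw, mul_inv_cancel_right]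
    exact hv)
  refine RankOne.mem_eq_one hD (hwH w hw) (CfsgLib.ProdFusion.odd_orderOf_of_mem hW hw) fun t ht => ?_
  have h1 : w * t * w⁻¹ * t⁻¹ ∈ W := by
    rw [show w * t * w⁻¹ * t⁻¹ = w * (t * w⁻¹ * t⁻¹) by group]
    exact mul_mem hw (hinv t ht _ (inv_mem hw))
  have h2 : w * t * w⁻¹ * t⁻¹ ∈ (Q : Subgroup Y) :=
    (Q : Subgroup Y).mul_mem ((mem_normalizer_iff.1 (hD.norm (hwH w hw)) t).1 ht) ((Q : Subgroup Y).inv_mem ht)
  obtain ⟨k, hk⟩ := Q.2 ⟨_, h2⟩
  exact mul_inv_eq_one.1 (CfsgLib.Invol.eq_one_of_odd_of_pow_two (CfsgLib.ProdFusion.odd_orderOf_of_mem hW h1)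
    (congrArg Subtype.val hk))

set_option maxHeartbeats 1000000 in
/-- The odd core of `C(D)` commutes with the `2`-elements of `S ∩ C(D)`. -/
theorem commute_core (hI : Inputs.{u}) (S : Sylow 2 G) {D : Subgroup G} (hO : Cfsg.pPrimeCore 2 G = ⊥)
    (hcomm : ∀ a ∈ D, ∀ b ∈ D, a * b = b * a) (hsc : Cfsg.IsStronglyClosed D (S : Subgroup G)) {o : G}
    (ho : o ∈ CfsgLib.ProdFusion.OC (centralizer (D : Set G))) {s : G} (hs : s ∈ centralizer (D : Set G))
    (hsS : s ∈ (S : Subgroup G)) : Commute o s := by
  classical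
  haveI := Fact.mk Nat.prime_two
  set H := centralizer (D : Set G) with hH
  set OH := CfsgLib.ProdFusion.OC H with hOH
  have hOodd : Odd (Nat.card OH) := CfsgLib.ProdFusion.odd_card_OC H
  have hoH : o ∈ H := CfsgLib.ProdFusion.OC_le H ho
  have hSN : (S : Subgroup G) ≤ normalizer (OH : Set G) :=
    ((CfsgLib.SECrit.sylow_le_normalizer_of_stronglyClosed S hsc).trans
      (CfsgLib.Coprime.normalizer_le_normalizer_centralizer D)).trans (CfsgLib.ProdFusion.le_normalizer_OC H)
  set K := normalClosure (D : Set G) with hK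
  haveI hKn : K.Normal := normalClosure_normal
  obtain ⟨T, hT, hpre⟩ := pre_normalClosure S hO hcomm hsc
  obtain ⟨htop, -, hBeq, hder⟩ := hpre.structure_theorem hI
  let Φ : G →* MulAut K := MulAut.conjNormal
  have hΦ : ∀ (g : G) (x : K), (Φ g x : G) = g * x * g⁻¹ := fun g x => MulAut.conjNormal_apply g x
  have hfixD : ∀ g ∈ H, ∀ b : K, (b : G) ∈ D → Φ g b = b := fun g hg b hb => Subtype.ext (by
    rw [hΦ, ← mem_centralizer_iff.1 hg _ hb, mul_inv_cancel_right])
  -- the commutator
  set c := o * s * o⁻¹ * s⁻¹ with hc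
  suffices hc1 : c = 1 by
    rw [hc, mul_inv_eq_one, mul_inv_eq_iff_eq_mul] at hc1
    exact hc1
  have hcH : c ∈ H := mul_mem (mul_mem (mul_mem hoH hs) (inv_mem hoH)) (inv_mem hs)
  have hcO : c ∈ OH := by
    rw [hc, show o * s * o⁻¹ * s⁻¹ = o * (s * o⁻¹ * s⁻¹) by group]
    exact mul_mem ho ((mem_normalizer_iff.1 (hSN hsS) _).1 (inv_mem ho))
  have hlayer : ∀ L : Subgroup K, Cfsg.IsComponent L → ∀ x ∈ L, Φ c x = x := by
    intro L hL
    haveI hLn := hpre.component_normal hL
    haveI := hL.2.2
    have hmem : ∀ g ∈ H, ∀ x ∈ L, Φ g x ∈ L := by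
      intro g hg x hx
      have hL' : Cfsg.IsComponent (L.map (Φ g).toMonoidHom) := CfsgLib.Coprime.isComponent_map_equiv (Φ g) hL
      by_cases e : L.map (Φ g).toMonoidHom = L
      · exact e ▸ mem_map_of_mem _ hx
      · exfalso
        obtain ⟨b, hb, hbc⟩ := hpre.exists_noncentral hL
        have hb' : (b : K) ∈ L.map (Φ g).toMonoidHom :=
          ⟨(b : K), b.2, hfixD g hg (b : K) (mem_subgroupOf.1 hb)⟩
        exact hbc (mem_center_iff.2 fun k => Subtype.ext
          (CfsgLib.Coprime.commutator_eq_bot_iff_forall.1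
            (CfsgLib.Coprime.components_commute hL' hL e) _ hb' k k.2).symm)
    let Ψ : H →* MulAut L :=
      { toFun := fun g =>
          { toFun := fun x => ⟨Φ g x, hmem g g.2 x x.2⟩
            invFun := fun x => ⟨Φ (g : G)⁻¹ x, hmem _ (inv_mem g.2) x x.2⟩
            left_inv := fun x => Subtype.ext (by
              show Φ (g : G)⁻¹ (Φ g x) = x
              rw [← MulAut.mul_apply, ← map_mul, inv_mul_cancel, map_one, MulAut.one_apply])
            right_inv := fun x => Subtype.ext (by
              show Φ g (Φ (g : G)⁻¹ x) = x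
              rw [← MulAut.mul_apply, ← map_mul, mul_inv_cancel, map_one, MulAut.one_apply])
            map_mul' := fun x y => Subtype.ext (map_mul (Φ g) (x : K) y) }
        map_one' := MulEquiv.ext fun x => Subtype.ext (by
          show Φ (1 : G) x = x
          rw [map_one, MulAut.one_apply])
        map_mul' := fun g g' => MulEquiv.ext fun x => Subtype.ext (by
          show Φ ((g : G) * g') x = Φ g (Φ g' x)
          rw [map_mul, MulAut.mul_apply]) }
    have hΨ : ∀ (g : H) (x : L), ((Ψ g x : K) : G) = (g : G) * ((x : K) : G) * (g : G)⁻¹ := fun g x => hΦ g x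
    set q := QuotientGroup.mk' (center L) with hq
    have hqs : Function.Surjective q := QuotientGroup.mk'_surjective _
    let α : H →* MulAut (L ⧸ center L) :=
      { toFun := fun g => QuotientGroup.congr _ _ (Ψ g) (CfsgLib.Coprime.map_center_equiv (Ψ g))
        map_one' := by
          refine MulEquiv.ext fun y => ?_
          obtain ⟨x, rfl⟩ := hqs y
          show q (Ψ 1 x) = q x
          rw [map_one]; rfl
        map_mul' := fun g g' => by
          refine MulEquiv.ext fun y => ?_
          obtain ⟨x, rfl⟩ := hqs y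
          show q (Ψ (g * g') x) = q (Ψ g (Ψ g' x))
          rw [map_mul]; rfl }
    have hα : ∀ (g : H) (x : L), α g (q x) = q (Ψ g x) := fun g x => rfl
    obtain ⟨TL, hTL, -⟩ := hpre.sylowK hL
    have hspec := hpre.compSpec hI hL
    set Ts : Sylow 2 (L ⧸ center L) := TL.mapSurjective hqs with hTsdef
    have hTs : (Ts : Subgroup (L ⧸ center L)) = (TL : Subgroup L).map q := Sylow.coe_mapSurjective hqs TL
    have hform : Form (L ⧸ center L) := by
      set BL := ((D.subgroupOf K).subgroupOf L) with hBL
      have hscL : Cfsg.IsStronglyClosed BL (TL : Subgroup L) :=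
        ⟨fun b hb => (hTL b).2 (hpre.closed.1 hb), fun b hb g hg =>
          hpre.conj_mem (g := (g : K)) hb ((hTL _).1 hg)⟩
      have hscq := Cfsg.Agent.S1250.result TL BL hscL (center L)
      rw [← hq, ← hTs] at hscq
      refine hI.form _ hspec.simple hspec.noncomm Ts (BL.map q) (fun e => ?_)
        (isMulCommutative_iff.2 fun a b => Subtype.ext ?_) hscq
      · obtain ⟨b, hb, hbc⟩ := hpre.exists_noncentral hL
        exact hbc ((QuotientGroup.eq_one_iff _).1 ((Subgroup.eq_bot_iff_forall _).1 e _
          (mem_map_of_mem q (mem_subgroupOf.2 hb))))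
      · obtain ⟨_, a, ha, rfl⟩ := a
        obtain ⟨_, b, hb, rfl⟩ := b
        show q a * q b = q b * q a
        rw [← map_mul, ← map_mul, show a * b = b * a from Subtype.ext (hpre.comm _ ha _ hb)]
    have hfix : ∀ (g : H), ∀ y ∈ (Ts : Subgroup (L ⧸ center L)), y * y = 1 → α g y = y := by
      intro g y hy hyy
      rw [hTs] at hy
      obtain ⟨x, hx, rfl⟩ := hy
      have hxB := (hspec.sq_mem x ((hTL x).1 hx) ((QuotientGroup.eq_one_iff _).1 (by
        show q (x * x) = 1
        rw [map_mul]; exact hyy))).1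
      rw [hα]
      congr 1
      exact Subtype.ext (hfixD g g.2 (x : K) (mem_subgroupOf.1 hxB))
    set oH : H := ⟨o, hoH⟩
    set sH : H := ⟨s, hs⟩
    have key : α oH * α sH = α sH * α oH := by
      haveI := hspec.simple
      by_cases hab : IsMulCommutative (Ts : Subgroup (L ⧸ center L))
      · have hcent : CfsgLib.Walter.CentForm (L ⧸ center L) :=
          CfsgLib.Walter.classified _ hspec.simple hspec.noncomm fun R a b => by
            let e := Sylow.equiv R Ts
            exact e.injective (by rw [map_mul, map_mul]; exact isMulCommutative_iff.1 hab (e a) (e b))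
        have hsq := (CfsgLib.Walter.Rank.sylow_elementary hspec.simple hcent Ts).2
        obtain ⟨k, hk⟩ := S.2 ⟨s, hsS⟩
        have hk' : sH ^ 2 ^ k = 1 := Subtype.ext (by simpa [sH] using congrArg Subtype.val hk)
        obtain ⟨t, ht, hte⟩ := hI.inner _ hspec.simple hspec.noncomm hform Ts (α sH) k
          (by rw [← map_pow, hk', map_one]) (fun y hy hyy => hfix sH y hy hyy)
          (fun y hy => by
            rw [hfix sH y hy (hsq y hy), inv_mul_cancel]
            exact ⟨one_mem _, one_mul 1⟩)
        have hot : α oH t = t := hfix oH t ht (hsq t ht)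
        refine MulEquiv.ext fun y => ?_
        rw [MulAut.mul_apply, MulAut.mul_apply, hte, hte, map_mul, map_mul, map_inv, hot]
      · have hi : IsoFamilies (L ⧸ center L) := hform.resolve_left fun hc => hab
          (isMulCommutative_iff.2 fun a b => abTwo_of_centForm hspec.simple hc Ts a b)
        have hO1 : α oH = 1 := by
          obtain ⟨H₀, hD₀⟩ := RankOne.exists_data_at hspec.simple hi Ts
          refine RankOne.eq_one_of_odd hD₀ _ ((CfsgLib.ProdFusion.odd_orderOf_of_mem hOodd ho).of_dvd_nat
            ((orderOf_map_dvd α oH).trans (Subgroup.orderOf_mk o hoH).dvd)) fun y hy => ?_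
          set W₀ : Subgroup L := (OH.subgroupOf K).subgroupOf L with hW₀
          have hW0 : W₀.map q = ⊥ := by
            refine eq_one_of_invariant hspec.simple hi Ts hab ?_ ?_ ?_
            · refine hOodd.of_dvd_nat ((Subgroup.card_map_dvd _ _).trans ?_)
              refine (Subgroup.card_dvd_of_injective
                (MonoidHom.codRestrict ((K.subtype.comp L.subtype).comp W₀.subtype) OH fun x => x.2) ?_)
              exact fun a b e => Subtype.ext (Subtype.ext (Subtype.ext (congrArg (fun z : OH => (z : G)) e :)))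
            · intro t ht w hw
              rw [hTs] at ht
              obtain ⟨t, ht, rfl⟩ := ht
              obtain ⟨w, hw, rfl⟩ := hw
              rw [← map_inv, ← map_mul, ← map_mul]
              refine mem_map_of_mem q ?_
              show (((t * w * t⁻¹ : L) : K) : G) ∈ OH
              push_cast
              exact (mem_normalizer_iff.1 (hSN ((hT _).1 ((hTL t).1 ht))) _).1 hw
            · intro v hv hvv w hw
              rw [hTs] at hv
              obtain ⟨v, hv, rfl⟩ := hv
              obtain ⟨w, hw, rfl⟩ := hw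
              have hvB := (hspec.sq_mem v ((hTL v).1 hv) ((QuotientGroup.eq_one_iff _).1 (by
                show q (v * v) = 1
                rw [map_mul]; exact hvv))).1
              rw [← map_mul, ← map_mul, show w * v = v * w from Subtype.ext (Subtype.ext
                (mem_centralizer_iff.1 (CfsgLib.ProdFusion.OC_le H hw) _ (mem_subgroupOf.1 hvB)).symm)]
          rw [hTs] at hy
          obtain ⟨x, hx, rfl⟩ := hy
          rw [hα, ← mul_inv_eq_one, ← map_inv, ← map_mul]
          refine (Subgroup.eq_bot_iff_forall _).1 hW0 _ (mem_map_of_mem q ?_)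
          show (((Ψ oH x * x⁻¹ : L) : K) : G) ∈ OH
          push_cast
          rw [hΨ, show (oH : G) * ((x : K) : G) * (oH : G)⁻¹ * ((x : K) : G)⁻¹ =
            o * (((x : K) : G) * o⁻¹ * ((x : K) : G)⁻¹) by show o * _ * o⁻¹ * _ = _; group]
          exact mul_mem ho ((mem_normalizer_iff.1 (hSN ((hT _).1 ((hTL x).1 hx))) _).1 (inv_mem ho))
        rw [hO1, one_mul, mul_one]
    have hαc : α ⟨c, hcH⟩ = 1 := by
      rw [show (⟨c, hcH⟩ : H) = oH * sH * oH⁻¹ * sH⁻¹ from rfl, map_mul, map_mul, map_mul, key, map_inv, map_inv,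
        mul_inv_cancel_right, mul_inv_cancel]
    -- trivial modulo the centre implies trivial
    set cH : H := ⟨c, hcH⟩
    have hz : ∀ x : L, x⁻¹ * Ψ cH x ∈ center L := fun x => QuotientGroup.eq.1 (by
      show q x = q (Ψ cH x)
      rw [← hα, hαc, MulAut.one_apply])
    have hhom : ∀ x : L, Ψ cH x = x := by
      let f : L →* center L := MonoidHom.mk' (fun x => ⟨x⁻¹ * Ψ cH x, hz x⟩) fun x y => Subtype.ext (by
        show (x * y)⁻¹ * Ψ cH (x * y) = x⁻¹ * Ψ cH x * (y⁻¹ * Ψ cH y)
        calc (x * y)⁻¹ * Ψ cH (x * y) = y⁻¹ * (x⁻¹ * Ψ cH x) * Ψ cH y := by rw [map_mul]; group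
          _ = x⁻¹ * Ψ cH x * y⁻¹ * Ψ cH y := by rw [mem_center_iff.1 (hz x) y⁻¹]
          _ = _ := by group)
      intro x
      have hperf : x ∈ commutator L := by
        haveI := hL.2.1
        exact (Group.IsPerfect.commutator_eq_top (G := L)).ge (mem_top x)
      have hker : commutator L ≤ f.ker := by
        rw [_root_.commutator_def, commutator_le]
        intro a _ b _
        rw [MonoidHom.mem_ker, map_commutatorElement, commutatorElement_eq_one_iff_mul_comm]
        exact Subtype.ext (mem_center_iff.1 (f b).2 _)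
      have h1 : x⁻¹ * Ψ cH x = 1 := congrArg Subtype.val (hker hperf)
      exact (inv_mul_eq_one.1 h1).symm
    exact fun x hx => congrArg Subtype.val (hhom ⟨x, hx⟩)
  -- `c` centralizes `K`
  set C := centralizer (K : Set G) with hC
  have hcC : c ∈ C := by
    let Fx : Subgroup K := (Φ c).toMonoidHom.eqLocus (MonoidHom.id K)
    have h1 : Cfsg.pCore 2 K ≤ Fx := fun x hx =>
      hfixD c hcH x (mem_subgroupOf.1 (hBeq.ge (mem_sup_left hx)))
    have h2 : commutator K ≤ Fx := by
      rw [hder]
      exact sSup_le fun L hL x hx => hlayer L hL x hx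
    refine mem_centralizer_iff.2 fun k hk => ?_
    have h3 : Φ c ⟨k, hk⟩ = ⟨k, hk⟩ := (htop ▸ sup_le h1 h2 : (⊤ : Subgroup K) ≤ Fx) (mem_top _)
    have h4 : c * k * c⁻¹ = k := by
      have := congrArg Subtype.val h3
      rwa [hΦ] at this
    exact (mul_inv_eq_iff_eq_mul.1 h4).symm
  -- so it is trivial
  haveI : C.Normal := Subgroup.normal_centralizer
  have hCH : C ≤ H := centralizer_le le_normalClosure
  have hW : OH ⊓ C ≤ CfsgLib.ProdFusion.OC C := by
    refine CfsgLib.ProdFusion.le_OC inf_le_right (hOodd.of_dvd_nat (card_dvd_of_le inf_le_left)) fun g hg => ?_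
    refine mem_normalizer_fintype fun x hx => ⟨?_, ?_⟩
    · exact (mem_normalizer_iff.1 (CfsgLib.ProdFusion.le_normalizer_OC_self H (hCH hg)) x).1 hx.1
    · exact C.mul_mem (C.mul_mem hg hx.2) (C.inv_mem hg)
  have h5 := CfsgLib.ProdFusion.OC_le_OC (N := C) (H := ⊤) le_top
    (by rw [normalizer_eq_top]) (hW ⟨hcO, hcC⟩)
  rwa [CfsgLib.ProdFusion.OC_top_eq_bot hO, mem_bot] at h5

end CfsgLib.Gold.CommPair
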