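import Cfsg.Agent.Lib.ProdFusion.Main
import Cfsg.Agent.S1250
import Cfsg.Agent.Lib.Coprime.Component

/-!
# Two commuting strongly closed subgroups meeting in a central subgroup

If both centralize the odd core then their normal closures commute modulo the intersection.
-/

set_option autoImplicit false
set_option linter.style.haveILetI false

namespace CfsgLib.Gold.CommPair

open Subgroup
open scoped commutatorElement

universe u

variable {G : Type u} [Group G] [Finite G]

theorem commutator_le_of_central (P : Sylow 2 G) {A₁ A₂ D : Subgroup G} (hD : D ≤ center G)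
    (h1 : Cfsg.IsStronglyClosed A₁ (P : Subgroup G)) (h2 : Cfsg.IsStronglyClosed A₂ (P : Subgroup G))
    (hc : ∀ a ∈ A₁, ∀ b ∈ A₂, a * b = b * a) (hDA : A₁ ⊓ A₂ = D)
    (hodd : ∀ a ∈ A₁, ∀ o ∈ Cfsg.pPrimeCore 2 G, Commute o a) :
    ⁅normalClosure (A₁ : Set G), normalClosure (A₂ : Set G)⁆ ≤ D := by
  haveI := Fact.mk Nat.prime_two
  haveI hDn : D.Normal := ⟨fun d hd g => by
    rwa [show g * d * g⁻¹ = d by rw [mem_center_iff.1 (hD hd) g, mul_inv_cancel_right]]⟩
  have hDP : D ≤ (P : Subgroup G) := hDA ▸ inf_le_left.trans h1.1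
  set N₁ := normalClosure (A₁ : Set G) with hN₁
  set N₂ := normalClosure (A₂ : Set G) with hN₂
  set π := QuotientGroup.mk' D with hπdef
  have hπ : Function.Surjective π := QuotientGroup.mk'_surjective D
  let PQ := P.mapSurjective hπ
  have hPQ : (PQ : Subgroup (G ⧸ D)) = (P : Subgroup G).map π := Sylow.coe_mapSurjective hπ P
  have hdisj : A₁.map π ⊓ A₂.map π = ⊥ := by
    refine (Subgroup.eq_bot_iff_forall _).2 ?_
    rintro _ ⟨⟨a, ha, rfl⟩, b, hb, e⟩
    have h3 : b⁻¹ * a ∈ D := QuotientGroup.eq.1 e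
    have h4 : a ∈ A₂ := by
      have := mul_mem hb ((hDA.ge h3).2)
      rwa [mul_inv_cancel_left] at this
    exact (QuotientGroup.eq_one_iff a).2 (hDA.le ⟨ha, h4⟩)
  have hmap := CfsgLib.ProdFusion.commutator_normalClosure_le PQ
    (S₁ := A₁.map π) (S₂ := A₂.map π) (hPQ ▸ Cfsg.Agent.S1250.result P A₁ h1 D)
    (hPQ ▸ Cfsg.Agent.S1250.result P A₂ h2 D)
    (by
      rintro _ ⟨a, ha, rfl⟩ _ ⟨b, hb, rfl⟩
      rw [← map_mul, ← map_mul, hc a ha b hb])
    hdisj
  rw [coe_map, coe_map, ← map_normalClosure _ π hπ, ← map_normalClosure _ π hπ, ← map_commutator] at hmap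
  set O := Cfsg.pPrimeCore 2 G
  -- the preimage of the odd core of the quotient is `D × O`
  set W := (Cfsg.pPrimeCore 2 (G ⧸ D)).comap π with hW
  have hWdec : ∀ u ∈ W, ∃ d ∈ D, ∃ o ∈ O, u = d * o := by
    haveI : (Cfsg.pPrimeCore 2 (G ⧸ D)).Normal := inferInstance
    haveI hWn : W.Normal := Normal.comap inferInstance π
    set Z := D.subgroupOf W with hZ
    haveI : Z.Normal := Normal.subgroupOf inferInstance W
    have hDW : D ≤ W := fun d hd => by
      show π d ∈ Cfsg.pPrimeCore 2 (G ⧸ D)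
      rw [show π d = 1 from (QuotientGroup.eq_one_iff d).2 hd]
      exact one_mem _
    have hindex : Odd Z.index := by
      let ψ : W →* (G ⧸ D) := π.comp W.subtype
      have hker : ψ.ker = Z := by
        ext u
        rw [MonoidHom.mem_ker, MonoidHom.comp_apply, hπdef, QuotientGroup.mk'_apply,
          QuotientGroup.eq_one_iff, hZ, mem_subgroupOf]
        rfl
      rw [← hker, Subgroup.index_ker]
      refine (CfsgLib.ProdFusion.odd_core (K := G ⧸ D)).of_dvd_nat (card_dvd_of_le ?_)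
      rintro _ ⟨u, rfl⟩
      exact u.2
    have hcop : (Nat.card Z).Coprime Z.index := by
      obtain ⟨k, hk⟩ := IsPGroup.iff_card.1 ((P.2.to_le hDP).comap_subtype (K := W))
      rw [show Nat.card Z = 2 ^ k from hk]
      exact (Nat.coprime_two_left.2 hindex).pow_left k
    obtain ⟨C, hC⟩ := Subgroup.exists_right_complement'_of_coprime hcop
    have hZcen : ∀ z ∈ Z, ∀ u : W, Commute z u := fun z hz u =>
      Subtype.ext (mem_center_iff.1 (hD (mem_subgroupOf.1 hz)) u).symm
    haveI : C.Normal := ⟨fun v hv g => by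
      obtain ⟨⟨z, w⟩, e⟩ := hC.2 g
      simp only at e
      rw [← e, show (z : W) * w * v * ((z : W) * w)⁻¹ = z * ((w : W) * v * (w : W)⁻¹) * (z : W)⁻¹ by
        group, (hZcen z z.2 _).eq, mul_inv_cancel_right]
      exact mul_mem (mul_mem w.2 hv) (inv_mem w.2)⟩
    have hsn : (C.map W.subtype).IsSubnormal :=
      (CfsgLib.Coprime.isSubnormal_map_subtype_iff (Normal.isSubnormal hWn) _).2 (Normal.isSubnormal inferInstance)
    have hCO : C.map W.subtype ≤ O := CfsgLib.Coprime.le_pPrimeCore_of_isSubnormal Nat.prime_two hsn (by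
      rw [card_map_of_injective W.subtype_injective, ← hC.symm.index_eq_card]
      exact Nat.coprime_two_right.2 hindex)
    intro u hu
    obtain ⟨⟨z, w⟩, e⟩ := hC.2 ⟨u, hu⟩
    simp only at e
    exact ⟨_, mem_subgroupOf.1 z.2, _, hCO ⟨w, w.2, rfl⟩, (congrArg Subtype.val e).symm⟩
  have hN₁₂ : ∀ a ∈ A₁, ∀ x ∈ N₂, ⁅a, x⁆ ∈ D := by
    intro a ha x hx
    obtain ⟨d, hd, o, ho, hu⟩ := hWdec ⁅a, x⁆
      (hmap (mem_map_of_mem π (commutator_mem_commutator (subset_normalClosure ha) hx)))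
    have hau : Commute a ⁅a, x⁆ := by
      rw [hu]
      exact Commute.mul_right (mem_center_iff.1 (hD hd) a) (hodd a ha o ho).symm
    have hn : ∀ n : ℕ, a ^ n * x * (a ^ n)⁻¹ = ⁅a, x⁆ ^ n * x := by
      intro n
      induction n with
      | zero => simp
      | succ n ih =>
        rw [pow_succ', show a * a ^ n * x * (a * a ^ n)⁻¹ = a * (a ^ n * x * (a ^ n)⁻¹) * a⁻¹ by group, ih,
          show a * (⁅a, x⁆ ^ n * x) * a⁻¹ = a * ⁅a, x⁆ ^ n * (x * a⁻¹) by group,
          (hau.pow_right n).eq, pow_succ, commutatorElement_def]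
        group
    obtain ⟨k, hk⟩ := P.2 ⟨a, h1.1 ha⟩
    have hak : a ^ 2 ^ k = 1 := congrArg Subtype.val hk
    have h3 := hn (2 ^ k)
    rw [hak, one_mul, inv_one, mul_one] at h3
    have h4 : ⁅a, x⁆ ^ 2 ^ k = 1 := mul_eq_right.1 h3.symm
    rw [hu, Commute.mul_pow (mem_center_iff.1 (hD hd) o).symm] at h4
    have h5 : o ^ 2 ^ k = (d ^ 2 ^ k)⁻¹ := eq_inv_of_mul_eq_one_right h4
    obtain ⟨j, hj⟩ := P.2 ⟨_, hDP (inv_mem (pow_mem hd (2 ^ k)))⟩
    have h6 : o ^ 2 ^ (k + j) = 1 := by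
      rw [pow_add, pow_mul, h5]
      exact congrArg Subtype.val hj
    rw [hu, CfsgLib.Invol.eq_one_of_odd_of_pow_two
      (CfsgLib.ProdFusion.odd_orderOf_of_mem CfsgLib.ProdFusion.odd_core ho) h6, mul_one]
    exact hd
  refine commutator_le.2 fun g hg x hx => ?_
  have hle : N₁ ≤ (centralizer ((N₂.map π : Subgroup (G ⧸ D)) : Set (G ⧸ D))).comap π := by
    haveI : (N₂.map π).Normal := Subgroup.Normal.map normalClosure_normal π hπ
    haveI : (centralizer ((N₂.map π : Subgroup (G ⧸ D)) : Set (G ⧸ D))).Normal := Subgroup.normal_centralizer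
    haveI := Normal.comap ‹(centralizer ((N₂.map π : Subgroup (G ⧸ D)) : Set (G ⧸ D))).Normal› π
    refine normalClosure_le_normal fun a ha => mem_centralizer_iff.2 ?_
    rintro _ ⟨y, hy, rfl⟩
    refine Eq.symm (commutatorElement_eq_one_iff_mul_comm.1 ?_)
    rw [← map_commutatorElement]
    exact (QuotientGroup.eq_one_iff _).2 (hN₁₂ a ha y hy)
  refine (QuotientGroup.eq_one_iff _).1 ?_
  show π ⁅g, x⁆ = 1
  rw [map_commutatorElement, commutatorElement_eq_one_iff_mul_comm]
  exact ((mem_centralizer_iff.1 (hle hg)) _ (mem_map_of_mem π hx)).symm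

end CfsgLib.Gold.CommPair
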