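import Cfsg.Agent.Lib.Goldschmidt.Consumers.CommutingPair.Action
import Cfsg.Agent.Lib.Goldschmidt.Consumers.CommutingPair.Central

/-!
# The normal closures of two commuting strongly closed `2`-subgroups

Their commutator lies in the normal closure of the intersection times the odd core, given Goldschmidt's
theorem: with `O(G) = 1`, `D = S₁ ∩ S₂` and `K` its normal closure, `G = K N(D)`, the conjugates of `S_i`
under `N(D)` are conjugates under `C(D)`, and in `C(D)` the two normal closures commute modulo `D`.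
-/

set_option autoImplicit false
set_option linter.style.haveILetI false

namespace CfsgLib.Gold.CommPair

open Subgroup
open scoped commutatorElement

universe u

variable {G : Type u} [Group G] [Finite G]

/-- A Sylow subgroup of `C(D)` with the Frattini decomposition of `N(D)`. -/
theorem exists_sylow_centralizer (S : Sylow 2 G) {D : Subgroup G} (hsc : Cfsg.IsStronglyClosed D (S : Subgroup G)) :
    ∃ P : Sylow 2 (centralizer (D : Set G)),
      (∀ x, x ∈ (P : Subgroup (centralizer (D : Set G))) ↔ (x : G) ∈ (S : Subgroup G)) ∧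
      ∀ n ∈ normalizer (D : Set G), ∃ h ∈ centralizer (D : Set G), ∃ m : G, n = h * m ∧
        ∀ x ∈ (S : Subgroup G) ⊓ centralizer (D : Set G), m * x * m⁻¹ ∈ (S : Subgroup G) := by
  haveI := Fact.mk Nat.prime_two
  set N := normalizer (D : Set G) with hN
  set H := centralizer (D : Set G) with hH
  have hHN : H ≤ N := centralizer_le_normalizer _
  have hSN : (S : Subgroup G) ≤ N := CfsgLib.SECrit.sylow_le_normalizer_of_stronglyClosed S hsc
  haveI hn : (H.subgroupOf N).Normal :=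
    normal_subgroupOf_of_le_normalizer (CfsgLib.Coprime.normalizer_le_normalizer_centralizer D)
  obtain ⟨R, hR⟩ := CfsgLib.LS.sylow_inf_subnormal (S.subtype hSN) (Normal.isSubnormal hn)
  have hRmem : ∀ x : H.subgroupOf N, x ∈ (R : Subgroup (H.subgroupOf N)) ↔ ((x : N) : G) ∈ (S : Subgroup G) :=
    fun x => ⟨fun hx => (hR ▸ mem_map_of_mem (H.subgroupOf N).subtype hx :
        (x : N) ∈ (S.subtype hSN : Subgroup N) ⊓ H.subgroupOf N).1, fun hx => by
      obtain ⟨y, hy, e⟩ := hR.ge (show (x : N) ∈ (S.subtype hSN : Subgroup N) ⊓ H.subgroupOf N from ⟨hx, x.2⟩)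
      rwa [← Subtype.ext (e : (y : N) = x)]⟩
  let e := subgroupOfEquivOfLe hHN
  refine ⟨R.mapSurjective (f := e.toMonoidHom) e.surjective, fun x => ?_, fun n hn' => ?_⟩
  · show x ∈ (R : Subgroup (H.subgroupOf N)).map e.toMonoidHom ↔ _
    rw [Subgroup.mem_map_equiv, hRmem]
    rfl
  · have h1 : (⟨n, hn'⟩ : N) ∈ H.subgroupOf N ⊔
        normalizer (((R : Subgroup (H.subgroupOf N)).map (H.subgroupOf N).subtype : Subgroup N) : Set N) := by
      rw [sup_comm, Sylow.normalizer_sup_eq_top]; exact mem_top _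
    obtain ⟨h, hh, m, hm, e'⟩ := CfsgLib.Coprime.mem_sup_exists (fun x _ => by
      rw [normalizer_eq_top]; exact mem_top x) h1
    refine ⟨h, hh, m, (congrArg Subtype.val e').symm, fun x hx => ?_⟩
    rw [hR] at hm
    exact ((mem_normalizer_iff.1 hm ⟨x, hHN hx.2⟩).1 ⟨hx.1, hx.2⟩).1

/-- Both normal closures, modulo the normal closure of the intersection. -/
theorem commutator_le_normalClosure_inf (hI : Struct.Inputs.{u}) (S : Sylow 2 G) {S₁ S₂ : Subgroup G}
    (hO : Cfsg.pPrimeCore 2 G = ⊥) (h₁ : Cfsg.IsStronglyClosed S₁ (S : Subgroup G))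
    (h₂ : Cfsg.IsStronglyClosed S₂ (S : Subgroup G)) (hc : ∀ a ∈ S₁, ∀ b ∈ S₂, a * b = b * a) :
    ⁅normalClosure (S₁ : Set G), normalClosure (S₂ : Set G)⁆ ≤
      normalClosure ((S₁ ⊓ S₂ : Subgroup G) : Set G) := by
  haveI := Fact.mk Nat.prime_two
  set D := S₁ ⊓ S₂ with hD
  have hscD : Cfsg.IsStronglyClosed D (S : Subgroup G) :=
    ⟨inf_le_left.trans h₁.1, fun d hd g hg => ⟨h₁.2 d hd.1 g hg, h₂.2 d hd.2 g hg⟩⟩
  have hDc : ∀ a ∈ D, ∀ b ∈ D, a * b = b * a := fun a ha b hb => hc a ha.1 b hb.2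
  set H := centralizer (D : Set G) with hH
  have h1H : S₁ ≤ H := fun a ha => mem_centralizer_iff.2 fun d hd => (hc a ha d hd.2).symm
  have h2H : S₂ ≤ H := fun b hb => mem_centralizer_iff.2 fun d hd => hc d hd.1 b hb
  obtain ⟨P, hP, hFr⟩ := exists_sylow_centralizer S hscD
  have hscH : ∀ T : Subgroup G, Cfsg.IsStronglyClosed T (S : Subgroup G) →
      Cfsg.IsStronglyClosed (T.subgroupOf H) (P : Subgroup H) := fun T hT =>
    ⟨fun a ha => (hP a).2 (hT.1 ha), fun a ha g hg => hT.2 (a : G) ha g ((hP _).1 hg)⟩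
  have hR := commutator_le_of_central P (A₁ := S₁.subgroupOf H) (A₂ := S₂.subgroupOf H) (D := D.subgroupOf H)
    (fun d hd => mem_center_iff.2 fun g => Subtype.ext (mem_centralizer_iff.1 g.2 (d : G) hd).symm)
    (hscH S₁ h₁) (hscH S₂ h₂) (fun a ha b hb => Subtype.ext (hc _ ha _ hb))
    (comap_inf _ _ _).symm (fun a ha o ho => Subtype.ext
      (commute_core hI S hO hDc hscD (mem_map_of_mem H.subtype ho) a.2 (h₁.1 ha)).eq)
  set K := normalClosure (D : Set G) with hK
  haveI : K.Normal := normalClosure_normal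
  -- the conjugates lie in `K R`
  have hcover : ∀ T : Subgroup G, Cfsg.IsStronglyClosed T (S : Subgroup G) → T ≤ H → normalClosure (T : Set G) ≤
      K ⊔ (normalClosure ((T.subgroupOf H : Subgroup H) : Set H)).map H.subtype := by
    intro T hT hTH
    rw [normalClosure, closure_le]
    intro x hx
    obtain ⟨a, ha, hcj⟩ := Group.mem_conjugatesOfSet_iff.1 hx
    obtain ⟨g, rfl⟩ := isConj_iff.1 hcj
    obtain ⟨k, hk, n, hn, rfl⟩ := exists_mul_normalizer S hscD g
    obtain ⟨h, hh, m, rfl, hm⟩ := hFr n hn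
    have ha' : m * a * m⁻¹ ∈ T := hT.2 a ha m (hm a ⟨hT.1 ha, hTH ha⟩)
    rw [show k * (h * m) * a * (k * (h * m))⁻¹ = k * (h * (m * a * m⁻¹) * h⁻¹) * k⁻¹ by group]
    refine mul_mem (mul_mem (mem_sup_left hk) (mem_sup_right ?_)) (inv_mem (mem_sup_left hk))
    exact ⟨⟨h, hh⟩ * ⟨m * a * m⁻¹, hTH ha'⟩ * ⟨h, hh⟩⁻¹,
      normalClosure_normal.conj_mem _ (subset_normalClosure (mem_subgroupOf.2 ha')) _, rfl⟩
  refine (commutator_mono (hcover S₁ h₁ h1H) (hcover S₂ h₂ h2H)).trans ?_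
  rw [← QuotientGroup.ker_mk' K, ← Subgroup.map_eq_bot_iff, map_commutator, Subgroup.map_sup, Subgroup.map_sup,
    show (QuotientGroup.mk' K).ker.map (QuotientGroup.mk' K) = ⊥ from (Subgroup.map_eq_bot_iff _).2 le_rfl,
    bot_sup_eq, bot_sup_eq, ← map_commutator,
    Subgroup.map_eq_bot_iff, QuotientGroup.ker_mk', ← map_commutator, map_le_iff_le_comap]
  exact hR.trans fun d hd => subset_normalClosure hd

/-- S2767, given Goldschmidt's theorem. -/
theorem S2767_of (hI : Struct.Inputs.{u}) (S : Sylow 2 G) {S₁ S₂ : Subgroup G}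
    (h₁ : Cfsg.IsStronglyClosed S₁ (S : Subgroup G)) (h₂ : Cfsg.IsStronglyClosed S₂ (S : Subgroup G))
    (hc : ∀ a ∈ S₁, ∀ b ∈ S₂, a * b = b * a) :
    ⁅normalClosure (S₁ : Set G), normalClosure (S₂ : Set G)⁆ ≤
      normalClosure ((S₁ ⊓ S₂ : Subgroup G) : Set G) ⊔ Cfsg.pPrimeCore 2 G := by
  haveI := Fact.mk Nat.prime_two
  set O := Cfsg.pPrimeCore 2 G with hO
  set π := QuotientGroup.mk' O with hπdef
  have hπ : Function.Surjective π := QuotientGroup.mk'_surjective O
  let SQ := S.mapSurjective hπ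
  have hSQ : (SQ : Subgroup (G ⧸ O)) = (S : Subgroup G).map π := Sylow.coe_mapSurjective hπ S
  have hinf : S₁.map π ⊓ S₂.map π = (S₁ ⊓ S₂).map π := by
    refine le_antisymm ?_ (map_inf_le _ _ π)
    rintro _ ⟨⟨a, ha, rfl⟩, b, hb, e⟩
    have hm : b⁻¹ * a ∈ O := QuotientGroup.eq.1 e
    obtain ⟨k, hk⟩ := S.2 ⟨_, mul_mem (inv_mem (h₂.1 hb)) (h₁.1 ha)⟩
    have h1 : b⁻¹ * a = 1 := CfsgLib.Invol.eq_one_of_odd_of_pow_two
      (CfsgLib.ProdFusion.odd_orderOf_of_mem CfsgLib.ProdFusion.odd_core hm) (congrArg Subtype.val hk)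
    exact mem_map_of_mem π ⟨ha, (inv_mul_eq_one.1 h1) ▸ hb⟩
  have h := commutator_le_normalClosure_inf hI SQ (S₁ := S₁.map π) (S₂ := S₂.map π)
    (CfsgLib.Coprime.pPrimeCore_quotient_eq_bot Nat.prime_two)
    (hSQ ▸ Cfsg.Agent.S1250.result S S₁ h₁ O) (hSQ ▸ Cfsg.Agent.S1250.result S S₂ h₂ O)
    (by
      rintro _ ⟨a, ha, rfl⟩ _ ⟨b, hb, rfl⟩
      rw [← map_mul, ← map_mul, hc a ha b hb])
  rw [hinf, coe_map, coe_map, coe_map, ← map_normalClosure _ π hπ, ← map_normalClosure _ π hπ,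
    ← map_normalClosure _ π hπ, ← map_commutator, Subgroup.map_le_map_iff, hπdef, QuotientGroup.ker_mk'] at h
  exact h

end CfsgLib.Gold.CommPair
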